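import Mathlib
import Cfsg.Agent.Lib.Gold.S4F
import Cfsg.Agent.Lib.Ward.BorL
import Cfsg.Agent.Lib.Comp.FStar

/-! Groups in which no element of order three is real: elementary facts. -/

set_option autoImplicit false

namespace CfsgLib.NR3

open Subgroup Cfsg

variable {G : Type*} [Group G]

/-- no element of order three is inverted -/
def NR (G : Type*) [Group G] : Prop := ∀ z t : G, orderOf z = 3 → t * z * t⁻¹ ≠ z⁻¹

/-- generated by its `2`-elements -/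
def Gen (G : Type*) [Group G] : Prop :=
  ∀ Y : Subgroup G, (∀ (s : G) (k : ℕ), s ^ 2 ^ k = 1 → s ∈ Y) → Y = ⊤

theorem nr_iff [Finite G] : NR G ↔ ¬ Involves (Equiv.Perm (Fin 3)) G := by
  rw [Gold.S4F.s3_iff_real]
  exact ⟨fun h ⟨z, t, h1, h2⟩ => h z t h1 h2, fun h z t h1 h2 => h ⟨z, t, h1, h2⟩⟩

theorem NR.of_involves [Finite G] {H : Type*} [Group H] [Finite H] (h : NR G) (hi : Involves H G) :
    NR H := nr_iff.2 fun e => nr_iff.1 h (ZJ.involves_trans e hi)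

theorem Gen.of_surjective {H : Type*} [Group H] (h : Gen G) (f : G →* H)
    (hf : Function.Surjective f) : Gen H := fun Y hY => by
  have := h (Y.comap f) fun s k hs => hY (f s) k (by rw [← map_pow, hs, map_one])
  rw [← map_comap_eq_self_of_surjective hf Y, this, ← MonoidHom.range_eq_map,
    MonoidHom.range_eq_top.2 hf]

/-- A `2`-element normalizing a `3`-subgroup centralizes it. -/
theorem NR.cent [Finite G] (h : NR G) {Q : Subgroup G} (hQ : IsPGroup 3 Q) (k : ℕ) :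
    ∀ s : G, s ^ 2 ^ k = 1 → s ∈ normalizer (Q : Set G) → s ∈ centralizer (Q : Set G) := by
  induction k with
  | zero => intro s hs _; rw [pow_zero, pow_one] at hs; rw [hs]; exact one_mem _
  | succ k ih =>
    intro s hs hn
    have h2 := ih (s ^ 2) (by rw [← pow_mul, ← pow_succ', hs]) (pow_mem hn 2)
    intro u hu
    have hu' : s * u * s⁻¹ ∈ Q := (mem_normalizer_iff.1 hn u).1 hu
    by_contra hne
    have hx : u⁻¹ * (s * u * s⁻¹) ≠ 1 := fun e => hne (by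
      rw [inv_mul_eq_one] at e
      conv_lhs => rw [e]
      group)
    have hm : u⁻¹ * (s * u * s⁻¹) ∈ Q := mul_mem (inv_mem hu) hu'
    obtain ⟨j, hj⟩ := hQ ⟨_, hm⟩
    obtain ⟨y, hy, ho⟩ := Gold.S4F.exists_three hx (k := j) (congrArg Subtype.val hj)
    have h3 : s * (u⁻¹ * (s * u * s⁻¹)) * s⁻¹ = (u⁻¹ * (s * u * s⁻¹))⁻¹ := by
      have e := h2 u hu
      calc s * (u⁻¹ * (s * u * s⁻¹)) * s⁻¹ = s * u⁻¹ * s⁻¹ * ((s ^ 2 * u) * (s ^ 2)⁻¹) := by
            rw [pow_two]; group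
        _ = _ := by rw [← e]; group
    obtain ⟨m, rfl⟩ := mem_zpowers_iff.1 hy
    exact h _ s ho (by rw [← conj_zpow, h3, inv_zpow])

theorem Gen.sup [Finite G] (h : Gen G) {E X Y : Subgroup G} [hE : E.Normal] (hX : E ⊔ X = ⊤)
    (hY : ∀ s ∈ X, ∀ k : ℕ, s ^ 2 ^ k = 1 → s ∈ Y) : E ⊔ Y = ⊤ := by
  refine h _ fun g k hg => ?_
  have h1 : g ∈ E ⊔ X := hX ▸ mem_top g
  rw [← SetLike.mem_coe, normal_mul] at h1
  obtain ⟨e, he, x, hx, rfl⟩ := h1
  refine mul_mem (mem_sup_left he) ?_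
  have h2 : x ^ 2 ^ k ∈ E := by
    rw [← QuotientGroup.eq_one_iff, QuotientGroup.mk_pow]
    have := congrArg (QuotientGroup.mk : G → G ⧸ E) hg
    rwa [QuotientGroup.mk_pow, QuotientGroup.mk_mul, (QuotientGroup.eq_one_iff e).2 he,
      one_mul] at this
  obtain ⟨a, m, hm, ho⟩ := Nat.exists_eq_two_pow_mul_odd (orderOf_pos x).ne'
  have h3 : x ^ m ∈ Y := hY _ (pow_mem hx m) a (by
    rw [← pow_mul, mul_comm, ← ho, pow_orderOf_eq_one])
  have hc : Nat.Coprime (2 ^ k) m := (Nat.coprime_two_left.2 hm).pow_left k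
  obtain ⟨u, v, huv⟩ : ∃ u v : ℤ, ((2 ^ k : ℕ) : ℤ) * u + (m : ℤ) * v = 1 :=
    ⟨_, _, by rw [← Nat.gcd_eq_gcd_ab, hc]; rfl⟩
  have : x = (x ^ 2 ^ k) ^ u * (x ^ m) ^ v := by
    rw [← zpow_natCast, ← zpow_natCast, ← zpow_mul, ← zpow_mul, ← zpow_add, huv, zpow_one]
  rw [this]
  exact mul_mem (mem_sup_left (zpow_mem h2 u)) (mem_sup_right (zpow_mem h3 v))

theorem sup_cent [Finite G] (h : NR G) (hg : Gen G) {E Q : Subgroup G} [hE : E.Normal]
    (hQE : Q ≤ E) (hQ : IsPGroup 3 Q) : E ⊔ centralizer (Q : Set G) = ⊤ := by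
  haveI : Fact (Nat.Prime 3) := ⟨Nat.prime_three⟩
  obtain ⟨P, hP⟩ := (hQ.comap_subtype (K := E)).exists_le_sylow
  have h1 := P.normalizer_sup_eq_top
  rw [sup_comm] at h1
  have h2 : Q ≤ (P : Subgroup E).map E.subtype := fun x hx => ⟨⟨x, hQE hx⟩, hP hx, rfl⟩
  exact hg.sup h1 fun s hs k hk => centralizer_le h2 (h.cent (P.isPGroup'.map _) k s hk hs)

theorem fix_of_odd {L : Type*} [Group L] {φ : MulAut L} {k : ℕ} (hφ : φ ^ 2 ^ k = 1) {y u : L}
    (hy : φ y = y * u) (hu : φ u = u) (ho : Odd (orderOf u)) : φ y = y := by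
  have key : ∀ n : ℕ, (φ ^ n) y = y * u ^ n := by
    intro n
    induction n with
    | zero => simp
    | succ n ih => rw [pow_succ', MulAut.mul_apply, ih, map_mul, map_pow, hy, hu, pow_succ', mul_assoc]
  have h1 := key (2 ^ k)
  rw [hφ, MulAut.one_apply, left_eq_mul] at h1
  have h2 : orderOf u = 1 := Nat.Coprime.eq_one_of_dvd ((Nat.coprime_two_right.2 ho).pow_right k)
    (orderOf_dvd_of_pow_eq_one h1)
  rw [hy, orderOf_eq_one_iff.1 h2, mul_one]

theorem aut_triv {L : Type*} [Group L] [Finite L] {w : L} {Q R : Subgroup L} {q : ℕ}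
    (h : Ward.BorL w Q R q) (h4 : q % 4 = 3) (h3 : 3 < q) {φ : MulAut L} {k : ℕ}
    (hφ : φ ^ 2 ^ k = 1) (hQ : ∀ u ∈ Q, φ u = u) : φ = 1 := by
  have hq := h.cardQ
  have hr := h.cardR
  have oQ : ∀ u ∈ Q, Odd (orderOf u) := fun u hu =>
    Odd.of_dvd_nat (Nat.odd_iff.2 (by omega)) (Q.orderOf_dvd_natCard hu)
  have oR : ∀ u ∈ R, Odd (orderOf u) := fun u hu =>
    Odd.of_dvd_nat (Nat.odd_iff.2 (by omega)) (R.orderOf_dvd_natCard hu)
  obtain ⟨u, hu, hu1⟩ := Q.bot_or_exists_ne_one.resolve_left fun e => by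
    rw [e, card_bot] at hq; omega
  obtain ⟨z, hz, hz1⟩ := R.bot_or_exists_ne_one.resolve_left fun e => by
    rw [e, card_bot] at hr; omega
  have hR : ∀ r ∈ R, φ r = r := fun r hr => by
    have h1 : r⁻¹ * φ r ∈ Q := by
      rw [← h.centQ u hu hu1, mem_centralizer_singleton_iff]
      have e := hQ _ ((mem_normalizer_iff.1 (h.RQ hr) u).1 hu)
      rw [map_mul, map_mul, map_inv, hQ u hu] at e
      calc r⁻¹ * φ r * u = r⁻¹ * (φ r * u * (φ r)⁻¹) * φ r := by group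
        _ = _ := by rw [e]; group
    exact fix_of_odd hφ (u := r⁻¹ * φ r) (by group) (hQ _ h1) (oQ _ h1)
  have hw : φ w = w := by
    have h1 : w⁻¹ * φ w ∈ R := by
      rw [← h.centR z hz hz1, mem_centralizer_singleton_iff]
      have e := congrArg φ (h.inv z hz)
      rw [map_mul, map_mul, map_inv, map_inv, hR z hz, ← h.inv z hz] at e
      calc w⁻¹ * φ w * z = w⁻¹ * (φ w * z * (φ w)⁻¹) * φ w := by group
        _ = _ := by rw [e]; group
    exact fix_of_odd hφ (u := w⁻¹ * φ w) (by group) (hR _ h1) (oR _ h1)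
  have hB : ∀ b ∈ Q ⊔ R, φ b = b := fun b hb =>
    (sup_le (α := Subgroup L) (c := φ.toMonoidHom.eqLocus (MonoidHom.id L)) hQ hR) hb
  ext g
  rcases h.bruhat g with hg | ⟨a, ha, b, hb, rfl⟩
  · exact hB g hg
  · rw [map_mul, map_mul, hQ a ha, hw, hB b hb, MulAut.one_apply]

theorem exists_prod {L C : Subgroup G} [L.Normal] (hC : C ≤ centralizer (L : Set G))
    (hi : L ⊓ C = ⊥) (hs : L ⊔ C = ⊤) : Nonempty (G ≃* L × C) := by
  let f : L × C →* G := MonoidHom.noncommCoprod L.subtype C.subtype fun a b => hC b.2 a a.2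
  refine ⟨(MulEquiv.ofBijective f ⟨(injective_iff_map_eq_one f).2 fun x hx => ?_, fun g => ?_⟩).symm⟩
  · have e : (x.1 : G) * x.2 = 1 := hx
    have e1 : (x.1 : G) ∈ L ⊓ C := 
      ⟨x.1.2, by rw [eq_inv_of_mul_eq_one_left e]; exact C.inv_mem x.2.2⟩
    rw [hi, mem_bot] at e1
    rw [e1, one_mul] at e
    exact Prod.ext (Subtype.ext e1) (Subtype.ext e)
  · have h1 : g ∈ L ⊔ C := hs ▸ mem_top g
    rw [← SetLike.mem_coe, normal_mul] at h1
    obtain ⟨a, ha, b, hb, rfl⟩ := h1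
    exact ⟨(⟨a, ha⟩, ⟨b, hb⟩), rfl⟩

/-- a product over `Fin (k+1)` -/
def consEquiv {k : ℕ} (X : Fin (k + 1) → Type*) [∀ i, Group (X i)] :
    X 0 × (∀ i : Fin k, X i.succ) ≃* ∀ i, X i :=
  { Fin.consEquiv X with
    map_mul' := fun a b => by
      funext i
      refine Fin.cases ?_ (fun j => ?_) i <;> rfl }

end CfsgLib.NR3
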